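import Groth.Agent.SchDenseLib.Basic
import Mathlib.AlgebraicGeometry.Morphisms.Flat
import Mathlib.RingTheory.Flat.Basic
import Mathlib.LinearAlgebra.TensorProduct.Pi

/-!
# Preimages of schematically dense opens under flat morphisms
-/

universe u

open CategoryTheory AlgebraicGeometry TopologicalSpace TensorProduct

namespace Groth.Agent.SchDenseLib

/-- The family `S` is "dense" for the `A`-algebra `B`: an element killed by powers of all members of
`S` is zero, also after inverting any element. -/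
def DenseFamily {A : Type u} [CommRing A] (S : Set A) : Prop :=
  ∀ h a : A, (∀ g ∈ S, ∃ m n : ℕ, h ^ m * g ^ n * a = 0) → ∃ m : ℕ, h ^ m * a = 0

variable {X X' : Scheme.{u}}

/-- On an affine open `W`, the functions whose basic open lies in a schematically dense `U` form a
dense family. -/
lemma denseFamily_of_isSchematicallyDense {U : X.Opens} (hU : CInt.IsSchematicallyDense U)
    {W : X.Opens} (hW : IsAffineOpen W) :
    DenseFamily {g : Γ(X, W) | X.basicOpen g ≤ U} := by
  intro h a hg
  refine (basicOpen_map_eq_zero_iff hW h a).1 ?_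
  refine (iff_eq_zero U).1 hU _ _ (eq_zero_of_germ _ fun x hx => ?_)
  rw [X.presheaf.germ_res_apply, X.presheaf.germ_res_apply]
  obtain ⟨g, hgU, hxg⟩ := hW.exists_basicOpen_le ⟨x, hx.2⟩ (X.basicOpen_le h hx.1)
  obtain ⟨m, n, hmn⟩ := hg g hgU
  have := congrArg (X.presheaf.germ W x (X.basicOpen_le h hx.1)).hom hmn
  rw [map_mul, map_mul, map_pow, map_pow, map_zero] at this
  exact (((X.mem_basicOpen h x _).1 hx.1).pow m |>.mul
    (((X.mem_basicOpen g x _).1 hxg).pow n)).mul_right_eq_zero.1 this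

/-- The affine reduction: to prove that `f ⁻¹ᵁ U` is schematically dense it suffices to show that a
function on an affine open of the source killed by powers of all `g` with `D(g) ⊆ U` vanishes. -/
lemma preimage_of_algebra (f : X' ⟶ X) (U : X.Opens)
    (h : ∀ (W : X.Opens) (W' : X'.Opens) (e : W' ≤ f ⁻¹ᵁ W), IsAffineOpen W → IsAffineOpen W' →
      ∀ b : Γ(X', W'), (∀ g : Γ(X, W), X.basicOpen g ≤ U → ∃ n : ℕ, (f.appLE W W' e g) ^ n * b = 0) →
        b = 0) :
    CInt.IsSchematicallyDense (f ⁻¹ᵁ U) := by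
  refine of_local _ fun V x hx => ?_
  obtain ⟨W, hW, hxW, -⟩ := Opens.isBasis_iff_nbhd.1 X.isBasis_affineOpens
    (show f x ∈ (⊤ : X.Opens) from trivial)
  obtain ⟨W', hW', hxW', hle⟩ := Opens.isBasis_iff_nbhd.1 X'.isBasis_affineOpens
    (show x ∈ V ⊓ f ⁻¹ᵁ W from ⟨hx, hxW⟩)
  refine ⟨W', hle.trans inf_le_left, hxW', fun b hb => h W W' (hle.trans inf_le_right) hW hW' b fun g hg => ?_⟩
  refine (basicOpen_map_eq_zero_iff hW' _ b).1 (map_eq_zero_of_le b inf_le_left ?_ hb)
  refine le_inf (X'.basicOpen_le _) ?_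
  rw [Scheme.basicOpen_appLE]
  exact inf_le_right.trans ((Opens.map f.base).map (homOfLE hg)).le

/-- Finite case of the algebraic statement. -/
lemma eq_zero_of_finite {A B : Type u} [CommRing A] [CommRing B] [Algebra A B] [Module.Flat A B]
    (T : Finset A) (hT : ∀ a : A, (∀ g ∈ T, ∃ n : ℕ, g ^ n * a = 0) → a = 0) (b : B)
    (hb : ∀ g ∈ T, ∃ n : ℕ, (algebraMap A B g) ^ n * b = 0) : b = 0 := by
  classical
  choose n hn using hb
  let l : A →ₗ[A] (T → A) := LinearMap.pi fun g => (g.1 ^ n g.1 g.2) • LinearMap.id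
  have hl : Function.Injective l := by
    refine (injective_iff_map_eq_zero l).2 fun a ha => hT a fun g hg => ⟨n g hg, ?_⟩
    simpa [l] using congrFun ha ⟨g, hg⟩
  have h1 := Module.Flat.lTensor_preserves_injective_linearMap (M := B) l hl
  have h2 : (TensorProduct.piRight A A B (fun _ : T => A)) (l.lTensor B (b ⊗ₜ 1)) = 0 := by
    ext g
    simp only [LinearMap.lTensor_tmul, TensorProduct.piRight_apply, TensorProduct.piRightHom_tmul,
      LinearMap.pi_apply, LinearMap.smul_apply, LinearMap.id_apply, l, Pi.zero_apply]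
    rw [TensorProduct.tmul_smul, TensorProduct.smul_tmul', Algebra.smul_def, map_pow, hn,
      TensorProduct.zero_tmul]
  have h3 : b ⊗ₜ[A] (1 : A) = 0 := h1 (by
    rw [map_zero]; exact (LinearEquiv.map_eq_zero_iff _).1 h2)
  simpa using congrArg (TensorProduct.rid A B) h3

/-- Flat preimages of schematically dense opens, locally Noetherian base. -/
theorem preimage_of_isLocallyNoetherian (f : X' ⟶ X) [Flat f] [IsLocallyNoetherian X] (U : X.Opens)
    (hU : CInt.IsSchematicallyDense U) : CInt.IsSchematicallyDense (f ⁻¹ᵁ U) := by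
  refine preimage_of_algebra f U fun W W' e hW hW' b hb => ?_
  have := IsLocallyNoetherian.component_noetherian (X := X) ⟨W, hW⟩
  let := (f.appLE W W' e).hom.toAlgebra
  have : Module.Flat Γ(X, W) Γ(X', W') := f.flat_appLE hW hW' e
  obtain ⟨T, hT⟩ := IsNoetherian.noetherian (Ideal.span {g : Γ(X, W) | X.basicOpen g ≤ U})
  have key : ∀ g ∈ T, ∀ {C : Type u} [CommRing C] (φ : Γ(X, W) →+* C) (c : C),
      (∀ g, X.basicOpen g ≤ U → ∃ n : ℕ, φ g ^ n * c = 0) → ∃ n : ℕ, φ g ^ n * c = 0 := by
    intro g hg C _ φ c hc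
    have hle : Ideal.span {g | X.basicOpen g ≤ U} ≤ (Ideal.radical (LinearMap.ker (LinearMap.mulRight C c))).comap φ :=
      Ideal.span_le.2 fun g hg => hc g hg
    exact hle (hT ▸ Submodule.subset_span hg)
  refine eq_zero_of_finite T (fun a ha => ?_) b fun g hg => key g hg (algebraMap _ _) b hb
  obtain ⟨m, hm⟩ := denseFamily_of_isSchematicallyDense hU hW 1 a fun g hgU => by
    have hle : Ideal.span (T : Set Γ(X, W)) ≤ Ideal.radical (LinearMap.ker (LinearMap.mulRight Γ(X, W) a)) :=
      Ideal.span_le.2 fun g hg => ha g hg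
    obtain ⟨n, hn⟩ := hle (hT.symm ▸ Ideal.subset_span hgU)
    exact ⟨0, n, by simpa using hn⟩
  simpa using hm

end Groth.Agent.SchDenseLib
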