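import Groth.Agent.GenFree.Basic
import Mathlib.RingTheory.Noetherian.Basic
import Mathlib.RingTheory.Ideal.Quotient.Noetherian
import Mathlib.LinearAlgebra.TensorProduct.Finiteness
import Mathlib.RingTheory.FiniteType
import Mathlib.Algebra.Module.LocalizedModule.Basic
import Mathlib.LinearAlgebra.TensorProduct.RightExactness
import Mathlib.RingTheory.TensorProduct.Basic
import Mathlib.LinearAlgebra.TensorProduct.Tower

/-!
# Dévissage: injectivity to an arbitrary family of localizations survives flat base change of finite type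

`A₀` is Noetherian, `A` any `A₀`-algebra, `B₀` of finite type over `A₀` such that `- ⊗[A₀] B₀` is exact
on `A`-modules (i.e. `A ⊗ B₀` is flat over `A`).  If an `A`-module `N` has no element killed, after
some localization, by powers of all members of a family `S`, then nothing in `N ⊗ B₀` is killed by
powers of all members of `S`.  Proof: Noetherian induction on an ideal of `A₀` killing `N`, and generic
freeness.
-/

universe u

open TensorProduct

namespace Groth.Agent.SchDenseLib.Devissage

variable {A₀ A : Type u} [CommRing A₀] [CommRing A] [Algebra A₀ A] (S : Set A)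
  (B₀ : Type u) [CommRing B₀] [Algebra A₀ B₀]

/-- A module in which schematic density of the family `S` holds, after every localization. -/
def DenseMod (N : Type u) [AddCommGroup N] [Module A N] : Prop :=
  ∀ (h : A) (a : N), (∀ g ∈ S, ∃ m n : ℕ, (h ^ m * g ^ n) • a = 0) → ∃ m : ℕ, h ^ m • a = 0

lemma DenseMod.of_injective {N N' : Type u} [AddCommGroup N] [Module A N] [AddCommGroup N']
    [Module A N'] (hN : DenseMod S N) (i : N' →ₗ[A] N) (hi : Function.Injective i) :
    DenseMod S N' := by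
  intro h a ha
  obtain ⟨m, hm⟩ := hN h (i a) fun g hg => by
    obtain ⟨m, n, hmn⟩ := ha g hg
    exact ⟨m, n, by rw [← map_smul, hmn, map_zero]⟩
  exact ⟨m, hi (by rw [map_smul, hm, map_zero])⟩

/-- `- ⊗[A₀] B₀` is exact on `A`-modules. -/
def FlatOver (A₀ A B₀ : Type u) [CommRing A₀] [CommRing A] [Algebra A₀ A] [CommRing B₀]
    [Algebra A₀ B₀] : Prop :=
  ∀ (N N' : Type u) [AddCommGroup N] [Module A N] [Module A₀ N] [IsScalarTower A₀ A N]
    [AddCommGroup N'] [Module A N'] [Module A₀ N'] [IsScalarTower A₀ A N'] (i : N' →ₗ[A] N),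
    Function.Injective i → Function.Injective (AlgebraTensorModule.map i (LinearMap.id : B₀ →ₗ[A₀] B₀))

/-- The statement proved by Noetherian induction on the ideal `J`. -/
def Claim (J : Ideal A₀) : Prop :=
  ∀ (N : Type u) [AddCommGroup N] [Module A N] [Module A₀ N] [IsScalarTower A₀ A N],
    DenseMod S N → (∀ j ∈ J, ∀ m : N, j • m = 0) →
    ∀ b : N ⊗[A₀] B₀, (∀ g ∈ S, ∃ n : ℕ, g ^ n • b = 0) → b = 0

variable {S B₀}

lemma mk_add_same {P : Submonoid A} {N : Type u} [AddCommGroup N] [Module A N] (x y : N) (s : P) :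
    LocalizedModule.mk x s + LocalizedModule.mk y s = LocalizedModule.mk (x + y) s := by
  rw [LocalizedModule.mk_add_mk, LocalizedModule.mk_eq]
  exact ⟨1, by simp [Submonoid.smul_def, mul_smul, smul_add]⟩

lemma mk_eq_zero {P : Submonoid A} {N : Type u} [AddCommGroup N] [Module A N] (x : N) (s : P) :
    LocalizedModule.mk x s = 0 ↔ ∃ c : P, c • x = 0 := by
  rw [← LocalizedModule.zero_mk s, LocalizedModule.mk_eq]
  constructor
  · rintro ⟨c, hc⟩; exact ⟨c * s, by simpa [mul_smul] using hc⟩
  · rintro ⟨c, hc⟩; exact ⟨c, by rw [smul_comm c s x, hc, smul_zero, smul_zero]⟩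

variable {N : Type u} [AddCommGroup N] [Module A N] [Module A₀ N] [IsScalarTower A₀ A N]

lemma tmul_eq_zero_of_mem_smul {J : Ideal A₀} (hN : ∀ j ∈ J, ∀ m : N, j • m = 0) (m : N)
    {z : B₀} (hz : z ∈ J • (⊤ : Submodule A₀ B₀)) : m ⊗ₜ[A₀] z = 0 := by
  induction hz using Submodule.smul_induction_on' with
  | smul j hj y _ => rw [← TensorProduct.smul_tmul, hN j hj, TensorProduct.zero_tmul]
  | add x _ y _ hx hy => rw [TensorProduct.tmul_add, hx, hy, add_zero]

lemma map_hyp {N' : Type u} [AddCommGroup N'] [Module A N'] [Module A₀ N'] [IsScalarTower A₀ A N']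
    (p : N →ₗ[A] N') {b : N ⊗[A₀] B₀} (hb : ∀ g ∈ S, ∃ n : ℕ, g ^ n • b = 0) :
    ∀ g ∈ S, ∃ n : ℕ, g ^ n • AlgebraTensorModule.map p (LinearMap.id : B₀ →ₗ[A₀] B₀) b = 0 := by
  intro g hg
  obtain ⟨n, hn⟩ := hb g hg
  exact ⟨n, by rw [← map_smul, hn, map_zero]⟩

lemma lsmul_map_eq (a : A) (b : N ⊗[A₀] B₀) :
    AlgebraTensorModule.map (LinearMap.lsmul A N a) (LinearMap.id : B₀ →ₗ[A₀] B₀) b = a • b := by
  induction b using TensorProduct.induction_on with
  | zero => rw [map_zero, smul_zero]
  | tmul x y => simp [TensorProduct.smul_tmul']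
  | add x y hx hy => rw [map_add, hx, hy, smul_add]

/-- An element killed by `a` comes from the part killed by `a`. -/
lemma eq_zero_of_smul_eq_zero (hF : FlatOver A₀ A B₀) {J : Ideal A₀} (a : A₀)
    (hJ : Claim S B₀ (J ⊔ Ideal.span {a})) (hd : DenseMod S N) (hN : ∀ j ∈ J, ∀ m : N, j • m = 0)
    (b : N ⊗[A₀] B₀) (hb : ∀ g ∈ S, ∃ n : ℕ, g ^ n • b = 0) (hab : algebraMap A₀ A a • b = 0) :
    b = 0 := by
  let μ := LinearMap.lsmul A N (algebraMap A₀ A a)
  have hex : Function.Exact (LinearMap.ker μ).subtype μ.rangeRestrict := by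
    rw [LinearMap.exact_iff, LinearMap.ker_rangeRestrict, Submodule.range_subtype]
  have h0 : AlgebraTensorModule.map μ.rangeRestrict (LinearMap.id : B₀ →ₗ[A₀] B₀) b = 0 := by
    apply hF N _ (LinearMap.range μ).subtype Subtype.val_injective
    rw [map_zero, ← LinearMap.comp_apply, ← AlgebraTensorModule.map_comp, LinearMap.id_comp,
      show (LinearMap.range μ).subtype ∘ₗ μ.rangeRestrict = μ from LinearMap.ext fun _ => rfl,
      lsmul_map_eq, hab]
  obtain ⟨b', hb'⟩ := (rTensor_exact B₀ (f := (LinearMap.ker μ).subtype.restrictScalars A₀)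
    (g := μ.rangeRestrict.restrictScalars A₀) hex μ.surjective_rangeRestrict b).1 h0
  have hb'' : AlgebraTensorModule.map (LinearMap.ker μ).subtype (LinearMap.id : B₀ →ₗ[A₀] B₀) b' = b := hb'
  have hz : b' = 0 := by
    refine hJ (LinearMap.ker μ) (hd.of_injective _ (LinearMap.ker μ).subtype Subtype.val_injective) (fun j hj m => ?_) b'
      fun g hg => ?_
    · obtain ⟨x, hx, y, hy, rfl⟩ := Submodule.mem_sup.1 hj
      obtain ⟨c, rfl⟩ := Ideal.mem_span_singleton'.1 hy
      apply Subtype.ext
      show (x + c * a) • (m : N) = 0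
      rw [add_smul, hN x hx, mul_smul, algebraMap_smul A a (m : N) |>.symm]
      rw [show algebraMap A₀ A a • (m : N) = 0 from m.2, smul_zero, add_zero]
    · obtain ⟨n, hn⟩ := hb g hg
      refine ⟨n, hF N _ (LinearMap.ker μ).subtype Subtype.val_injective ?_⟩
      rw [map_smul, map_zero, hb'', hn]
  rw [← hb'', hz, map_zero]

/-- Non-prime step. -/
lemma step_nonprime (hF : FlatOver A₀ A B₀) {J : Ideal A₀} (a c : A₀) (hac : a * c ∈ J)
    (ha : Claim S B₀ (J ⊔ Ideal.span {a})) (hc : Claim S B₀ (J ⊔ Ideal.span {c})) :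
    Claim S B₀ J := by
  intro N _ _ _ _ hd hN b hb
  refine eq_zero_of_smul_eq_zero hF a ha hd hN b hb ?_
  let μ := LinearMap.lsmul A N (algebraMap A₀ A a)
  have h0 : AlgebraTensorModule.map μ.rangeRestrict (LinearMap.id : B₀ →ₗ[A₀] B₀) b = 0 := by
    refine hc (LinearMap.range μ) (hd.of_injective _ (LinearMap.range μ).subtype (LinearMap.range μ).injective_subtype) ?_ _
      (map_hyp _ hb)
    rintro j hj ⟨_, m, rfl⟩
    apply Subtype.ext
    obtain ⟨x, hx, y, hy, rfl⟩ := Submodule.mem_sup.1 hj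
    obtain ⟨d, rfl⟩ := Ideal.mem_span_singleton'.1 hy
    show (x + d * c) • (algebraMap A₀ A a • m) = 0
    rw [algebraMap_smul, add_smul, hN x hx, ← mul_smul, mul_assoc, mul_comm c a, mul_smul,
      hN _ hac, smul_zero, zero_add]
  have := congrArg (AlgebraTensorModule.map (LinearMap.range μ).subtype (LinearMap.id : B₀ →ₗ[A₀] B₀)) h0
  rwa [map_zero, ← LinearMap.comp_apply, ← AlgebraTensorModule.map_comp, LinearMap.id_comp,
    show (LinearMap.range μ).subtype ∘ₗ μ.rangeRestrict = μ from LinearMap.ext fun _ => rfl,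
      lsmul_map_eq] at this

/-- A generic basis of `B₀ / J B₀`, in terms of `A₀`. -/
lemma exists_generic_basis [IsNoetherianRing A₀] [Algebra.FiniteType A₀ B₀] (J : Ideal A₀) [J.IsPrime] :
    ∃ f : A₀, f ∉ J ∧ ∃ (ι : Type u) (e : ι → B₀),
      (∀ c : ι →₀ A₀, Finsupp.linearCombination A₀ e c ∈ J • (⊤ : Submodule A₀ B₀) → ∀ i, c i ∈ J) ∧
      ∀ y : B₀, ∃ (k : ℕ) (c : ι →₀ A₀),
        f ^ k • y - Finsupp.linearCombination A₀ e c ∈ J • (⊤ : Submodule A₀ B₀) := by
  let JB : Ideal B₀ := J.map (algebraMap A₀ B₀)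
  let := Ideal.Quotient.algebraQuotientOfLEComap (P := JB) (p := J) Ideal.le_comap_map
  have : IsScalarTower A₀ (A₀ ⧸ J) (B₀ ⧸ JB) := .of_algebraMap_eq fun r => rfl
  have : Algebra.FiniteType (A₀ ⧸ J) (B₀ ⧸ JB) := Algebra.FiniteType.of_restrictScalars_finiteType A₀ _ _
  obtain ⟨fb, hfb, ι, φ, hφ, hr⟩ := GenFree.exists_gfree (R := A₀ ⧸ J) (M := B₀ ⧸ JB) (B₀ ⧸ JB)
  obtain ⟨f, rfl⟩ := Ideal.Quotient.mk_surjective fb
  refine ⟨f, fun h => hfb (Ideal.Quotient.eq_zero_iff_mem.2 h), ι,
    fun i => Function.surjInv Ideal.Quotient.mk_surjective (φ (Finsupp.single i 1)), ?_⟩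
  set e : ι → B₀ := fun i => Function.surjInv Ideal.Quotient.mk_surjective (φ (Finsupp.single i 1))
  have hmem : ∀ z : B₀, z ∈ J • (⊤ : Submodule A₀ B₀) ↔ Ideal.Quotient.mk JB z = 0 := fun z => by
    rw [Ideal.smul_top_eq_map, Ideal.Quotient.eq_zero_iff_mem]; rfl
  have hφe : ∀ c : ι →₀ A₀, Ideal.Quotient.mk JB (Finsupp.linearCombination A₀ e c) =
      φ (c.mapRange (Ideal.Quotient.mk J) (map_zero _)) := by
    intro c
    induction c using Finsupp.induction_linear with
    | zero => simp
    | add c d hc hd => rw [map_add, map_add, hc, hd, Finsupp.mapRange_add (map_add _), map_add]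
    | single i r =>
      rw [Finsupp.linearCombination_single, Finsupp.mapRange_single,
        ← Finsupp.smul_single_one i (Ideal.Quotient.mk J r), φ.map_smul]
      show Ideal.Quotient.mkₐ A₀ JB (r • e i) = _
      rw [map_smul, ← algebraMap_smul (A₀ ⧸ J) r, Ideal.Quotient.algebraMap_eq]
      congr 1
      exact Function.surjInv_eq Ideal.Quotient.mk_surjective _
  refine ⟨fun c hc i => ?_, fun y => ?_⟩
  · rw [hmem, hφe] at hc
    exact Ideal.Quotient.eq_zero_iff_mem.1
      (by simpa using DFunLike.congr_fun ((injective_iff_map_eq_zero φ).1 hφ _ hc) i)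
  · obtain ⟨k, c', hc'⟩ := hr (Ideal.Quotient.mk JB y)
    obtain ⟨c, rfl⟩ := Finsupp.mapRange_surjective (Ideal.Quotient.mk J) (map_zero _)
      Ideal.Quotient.mk_surjective c'
    refine ⟨k, c, ?_⟩
    rw [hmem, map_sub, hφe, hc', sub_eq_zero, ← map_pow, ← Ideal.Quotient.algebraMap_eq J,
      algebraMap_smul]
    exact map_smul (Ideal.Quotient.mkₐ A₀ JB) (f ^ k) y

/-- Prime step: some power of `f ∉ J` kills the element. -/
lemma exists_pow_smul_eq_zero [IsNoetherianRing A₀] [Algebra.FiniteType A₀ B₀]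
    {J : Ideal A₀} [J.IsPrime] :
    ∃ f : A₀, f ∉ J ∧ ∀ (N : Type u) [AddCommGroup N] [Module A N] [Module A₀ N] [IsScalarTower A₀ A N],
      DenseMod S N → (∀ j ∈ J, ∀ m : N, j • m = 0) →
      ∀ b : N ⊗[A₀] B₀, (∀ g ∈ S, ∃ n : ℕ, g ^ n • b = 0) →
        ∃ k : ℕ, algebraMap A₀ A (f ^ k) • b = 0 := by
  classical
  obtain ⟨f, hf, ι, e, hind, hgen⟩ := exists_generic_basis (B₀ := B₀) J
  refine ⟨f, hf, fun N _ _ _ _ hd hN b hb => ?_⟩
  let P : Submonoid A := Submonoid.powers (algebraMap A₀ A f)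
  let pw : ℕ → P := fun k => ⟨algebraMap A₀ A f ^ k, k, rfl⟩
  let Rel : B₀ → ℕ → (ι →₀ A₀) → Prop := fun y k c =>
    f ^ k • y - Finsupp.linearCombination A₀ e c ∈ J • (⊤ : Submodule A₀ B₀)
  choose kk cc hcc using hgen
  have indep : ∀ y k c, Rel y k c → ∀ (i : ι) (m : N),
      LocalizedModule.mk (cc y i • m) (pw (kk y)) = LocalizedModule.mk (c i • m) (pw k) := by
    intro y k c hr i m
    rw [LocalizedModule.mk_eq]
    refine ⟨1, ?_⟩
    have hmem : f ^ k • cc y i - f ^ kk y • c i ∈ J := by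
      have h := hind (f ^ k • cc y - f ^ kk y • c) ?_ i
      · simpa using h
      rw [map_sub, map_smul, map_smul]
      have h1 := Submodule.smul_mem _ (f ^ kk y) hr
      have h2 := Submodule.smul_mem _ (f ^ k) (hcc y)
      convert sub_mem h1 h2 using 1
      rw [smul_sub, smul_sub, smul_smul, smul_smul, mul_comm]
      abel
    rw [one_smul, one_smul]
    show (algebraMap A₀ A f ^ k) • (cc y i • m) = (algebraMap A₀ A f ^ kk y) • (c i • m)
    rw [← map_pow, ← map_pow, algebraMap_smul, algebraMap_smul, ← sub_eq_zero, smul_smul, smul_smul,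
      ← sub_smul]
    exact hN _ hmem m
  have hadd : ∀ y y', Rel (y + y') (kk y + kk y') (f ^ kk y' • cc y + f ^ kk y • cc y') := by
    intro y y'
    have h1 := Submodule.smul_mem _ (f ^ kk y') (hcc y)
    have h2 := Submodule.smul_mem _ (f ^ kk y) (hcc y')
    show _ ∈ _
    convert add_mem h1 h2 using 1
    rw [map_add, map_smul, map_smul, smul_sub, smul_sub, smul_smul, smul_smul, smul_add, pow_add,
      mul_comm (f ^ kk y') (f ^ kk y)]
    abel
  have hsmul : ∀ (r : A₀) y, Rel (r • y) (kk y) (r • cc y) := by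
    intro r y
    show _ ∈ _
    rw [map_smul, smul_comm, ← smul_sub]
    exact Submodule.smul_mem _ _ (hcc y)
  let ψ : ι → N →ₗ[A] B₀ →ₗ[A₀] LocalizedModule P N := fun i =>
    { toFun := fun m =>
        { toFun := fun y => LocalizedModule.mk (cc y i • m) (pw (kk y))
          map_add' := fun y y' => by
            rw [indep _ _ _ (hadd y y') i m, LocalizedModule.mk_add_mk]
            congr 1
            · show ((f ^ kk y' • cc y + f ^ kk y • cc y') i) • m =
                algebraMap A₀ A f ^ kk y' • (cc y i • m) + algebraMap A₀ A f ^ kk y • (cc y' i • m)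
              rw [← map_pow, ← map_pow, algebraMap_smul, algebraMap_smul]
              simp [add_smul, mul_smul]
            · exact Subtype.ext (pow_add _ _ _)
          map_smul' := fun r y => by
            rw [indep _ _ _ (hsmul r y) i m]
            show LocalizedModule.mk ((r • cc y) i • m) _ = r • LocalizedModule.mk (cc y i • m) _
            rw [← algebraMap_smul A r (LocalizedModule.mk (cc y i • m) (pw (kk y))),
              LocalizedModule.smul'_mk, algebraMap_smul]
            simp [mul_smul] }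
      map_add' := fun m m' => LinearMap.ext fun y => by
        show LocalizedModule.mk (cc y i • (m + m')) (pw (kk y)) =
          LocalizedModule.mk (cc y i • m) (pw (kk y)) + LocalizedModule.mk (cc y i • m') (pw (kk y))
        rw [smul_add, mk_add_same]
      map_smul' := fun a m => LinearMap.ext fun y => by
        show LocalizedModule.mk (cc y i • (a • m)) (pw (kk y)) =
          a • LocalizedModule.mk (cc y i • m) (pw (kk y))
        rw [LocalizedModule.smul'_mk, smul_comm] }
  obtain ⟨s, hs⟩ := TensorProduct.exists_finset b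
  let K := s.sup fun p => kk p.2
  let ct : (N × B₀) → (ι →₀ A₀) := fun p => f ^ (K - kk p.2) • cc p.2
  have hct : ∀ p ∈ s, Rel p.2 K (ct p) := by
    intro p hp
    show _ ∈ _
    have hle : kk p.2 ≤ K := Finset.le_sup (f := fun p => kk p.2) hp
    have := Submodule.smul_mem _ (f ^ (K - kk p.2)) (hcc p.2)
    rwa [smul_sub, smul_smul, ← pow_add, Nat.sub_add_cancel hle, ← map_smul] at this
  let T := s.biUnion fun p => (ct p).support
  let mco : ι → N := fun i => ∑ p ∈ s, ct p i • p.1
  have hψ : ∀ i, AlgebraTensorModule.lift (ψ i) b = LocalizedModule.mk (mco i) (pw K) := by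
    intro i
    have h1 : ∀ p ∈ s, AlgebraTensorModule.lift (ψ i) (p.1 ⊗ₜ[A₀] p.2) =
        LocalizedModule.mk (ct p i • p.1) (pw K) :=
      fun p hp => indep p.2 K (ct p) (hct p hp) i p.1
    rw [hs, map_sum, Finset.sum_congr rfl h1]
    refine (map_sum ({ toFun := fun m => LocalizedModule.mk m (pw K)
                       map_zero' := LocalizedModule.zero_mk _
                       map_add' := fun x y => (mk_add_same x y _).symm } : N →+ LocalizedModule P N)
      (fun p => ct p i • p.1) s).symm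
  have hkill : ∀ i, ∃ k : ℕ, f ^ k • mco i = 0 := by
    intro i
    obtain ⟨k, hk⟩ := hd (algebraMap A₀ A f) (mco i) fun g hg => by
      obtain ⟨n, hn⟩ := hb g hg
      have h0 := congrArg (AlgebraTensorModule.lift (ψ i)) hn
      rw [map_smul, map_zero, hψ, LocalizedModule.smul'_mk, mk_eq_zero] at h0
      obtain ⟨⟨_, m, rfl⟩, hm⟩ := h0
      exact ⟨m, n, by rw [mul_smul]; exact hm⟩
    exact ⟨k, by rw [← algebraMap_smul A (f ^ k) (mco i), map_pow]; exact hk⟩
  choose kz hkz using hkill
  refine ⟨T.sup kz + K, ?_⟩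
  have key : algebraMap A₀ A (f ^ K) • b = ∑ i ∈ T, mco i ⊗ₜ[A₀] e i := by
    rw [hs, Finset.smul_sum]
    simp only [mco, TensorProduct.sum_tmul]
    rw [Finset.sum_comm]
    refine Finset.sum_congr rfl fun p hp => ?_
    have h0 := tmul_eq_zero_of_mem_smul (B₀ := B₀) hN p.1 (hct p hp)
    rw [TensorProduct.tmul_sub, sub_eq_zero] at h0
    rw [TensorProduct.smul_tmul', algebraMap_smul, TensorProduct.smul_tmul, h0,
      Finsupp.linearCombination_apply,
      Finsupp.sum_of_support_subset _ (Finset.subset_biUnion_of_mem (fun p => (ct p).support) hp) _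
        (fun i _ => by simp), TensorProduct.tmul_sum]
    exact Finset.sum_congr rfl fun i _ => (TensorProduct.smul_tmul _ _ _).symm
  rw [pow_add, map_mul, mul_smul, key, Finset.smul_sum]
  refine Finset.sum_eq_zero fun i hi => ?_
  rw [TensorProduct.smul_tmul', algebraMap_smul,
    ← Nat.sub_add_cancel (Finset.le_sup (f := kz) hi), pow_add, mul_smul, hkz, smul_zero,
    TensorProduct.zero_tmul]

/-- The theorem. -/
theorem claim [IsNoetherianRing A₀] [Algebra.FiniteType A₀ B₀] (hF : FlatOver A₀ A B₀) (J : Ideal A₀) :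
    Claim S B₀ J := by
  induction J using IsNoetherian.induction with
  | hgt J ih =>
    have hlt : ∀ a ∉ J, J < J ⊔ Ideal.span {a} := fun a ha =>
      lt_of_le_of_ne le_sup_left fun h =>
        ha (h ▸ Ideal.mem_sup_right (Ideal.mem_span_singleton_self a))
    by_cases htop : J = ⊤
    · intro N _ _ _ _ _ hN b _
      have : Subsingleton N := ⟨fun x y => by
        rw [← one_smul A₀ x, ← one_smul A₀ y, hN 1 (htop ▸ Submodule.mem_top),
          hN 1 (htop ▸ Submodule.mem_top)]⟩
      exact Subsingleton.elim _ _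
    by_cases hp : ∀ {a c : A₀}, a * c ∈ J → a ∈ J ∨ c ∈ J
    · have : Ideal.IsPrime J := ⟨htop, hp⟩
      obtain ⟨f, hf, hkill⟩ := exists_pow_smul_eq_zero (S := S) (B₀ := B₀) (J := J) (A := A)
      intro N _ _ _ _ hd hN b hb
      obtain ⟨k, hk⟩ := hkill N hd hN b hb
      induction k generalizing b with
      | zero => simpa using hk
      | succ k ihk =>
        refine eq_zero_of_smul_eq_zero hF f (ih _ (hlt f hf)) hd hN b hb (ihk _ (fun g hg => ?_) ?_)
        · obtain ⟨n, hn⟩ := hb g hg
          exact ⟨n, by rw [smul_comm, hn, smul_zero]⟩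
        · rwa [← mul_smul, ← map_mul, ← pow_succ]
    · simp only [not_forall, not_or] at hp
      obtain ⟨a, c, hac, ha, hc⟩ := hp
      exact step_nonprime hF a c hac (ih _ (hlt a ha)) (ih _ (hlt c hc))

end Groth.Agent.SchDenseLib.Devissage
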