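import Groth.Agent.SchDenseLib.FlatNoeth
import Groth.Agent.SchDenseLib.Devissage
import Mathlib.RingTheory.Extension.Presentation.Core
import Mathlib.RingTheory.Flat.Stability
import Mathlib.AlgebraicGeometry.Morphisms.FinitePresentation

/-!
# Preimages of schematically dense opens under flat morphisms locally of finite presentation
-/

universe u

open CategoryTheory AlgebraicGeometry TensorProduct

namespace Groth.Agent.SchDenseLib

/-- Algebraic statement: in a flat algebra of finite presentation, nothing is killed by powers of all
members of a dense family. -/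
theorem eq_zero_of_flat_finitePresentation {A B : Type u} [CommRing A] [CommRing B] [Algebra A B]
    [Module.Flat A B] [Algebra.FinitePresentation A B] {S : Set A} (hS : DenseFamily S) (b : B)
    (hb : ∀ g ∈ S, ∃ n : ℕ, (algebraMap A B g) ^ n * b = 0) : b = 0 := by
  let P := Algebra.Presentation.ofFinitePresentation A B
  have : IsNoetherianRing P.Core := Algebra.FiniteType.isNoetherianRing ℤ _
  let B₀ := P.ModelOfHasCoeffs P.Core
  let e : A ⊗[P.Core] B₀ ≃ₐ[A] B := P.tensorModelOfHasCoeffsEquiv P.Core
  have : Module.Flat A (A ⊗[P.Core] B₀) := Module.Flat.of_linearEquiv e.toLinearEquiv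
  have hF : Devissage.FlatOver P.Core A B₀ := by
    intro N N' _ _ _ _ _ _ _ _ i hi
    have h1 := Module.Flat.rTensor_preserves_injective_linearMap (M := A ⊗[P.Core] B₀) i hi
    have h2 : ⇑(AlgebraTensorModule.map i (LinearMap.id : B₀ →ₗ[P.Core] B₀)) ∘
          ⇑(AlgebraTensorModule.cancelBaseChange P.Core A A N' B₀) =
        ⇑(AlgebraTensorModule.cancelBaseChange P.Core A A N B₀) ∘ ⇑(i.rTensor (A ⊗[P.Core] B₀)) := by
      funext z
      induction z using TensorProduct.induction_on with
      | zero => simp
      | tmul x y =>
        induction y using TensorProduct.induction_on with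
        | zero => simp
        | tmul a c => simp
        | add y z hy hz =>
          simp only [Function.comp_apply, TensorProduct.tmul_add, map_add] at hy hz ⊢
          rw [hy, hz]
      | add y z hy hz =>
        simp only [Function.comp_apply, map_add] at hy hz ⊢
        rw [hy, hz]
    refine Function.Injective.of_comp_right ?_ (AlgebraTensorModule.cancelBaseChange P.Core A A N' B₀).surjective
    rw [h2]
    exact (LinearEquiv.injective _).comp h1
  apply e.symm.injective
  rw [map_zero]
  refine Devissage.claim (S := S) (B₀ := B₀) hF ⊥ A (fun h a ha => ?_) ?_ (e.symm b) fun g hg => ?_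
  · obtain ⟨m, hm⟩ := hS h a (by simpa only [smul_eq_mul] using ha)
    exact ⟨m, by rwa [smul_eq_mul]⟩
  · intro j hj m
    rw [Ideal.mem_bot.1 hj, zero_smul]
  · obtain ⟨n, hn⟩ := hb g hg
    refine ⟨n, ?_⟩
    rw [← map_smul, Algebra.smul_def, map_pow, hn, map_zero]

variable {X X' : Scheme.{u}}

/-- Preimages under flat morphisms locally of finite presentation. -/
theorem preimage_of_flat_lfp (f : X' ⟶ X) [Flat f] [LocallyOfFinitePresentation f] (U : X.Opens)
    (hU : CInt.IsSchematicallyDense U) : CInt.IsSchematicallyDense (f ⁻¹ᵁ U) := by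
  refine preimage_of_algebra f U fun W W' e hW hW' b hb => ?_
  let := (f.appLE W W' e).hom.toAlgebra
  have : Module.Flat Γ(X, W) Γ(X', W') := f.flat_appLE hW hW' e
  have : Algebra.FinitePresentation Γ(X, W) Γ(X', W') := f.finitePresentation_appLE hW hW' e
  exact eq_zero_of_flat_finitePresentation (denseFamily_of_isSchematicallyDense hU hW) b hb

end Groth.Agent.SchDenseLib
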