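import Groth.Prelude.Def_CInt
import Mathlib.AlgebraicGeometry.AffineScheme
import Mathlib.AlgebraicGeometry.Noetherian
import Mathlib.RingTheory.Ideal.AssociatedPrime.Finiteness
import Mathlib.RingTheory.Spectrum.Prime.Topology

/-!
# Schematically dense opens
-/

universe u

open CategoryTheory AlgebraicGeometry TopologicalSpace

namespace Groth.Agent.SchDenseLib

variable {X : Scheme.{u}}

/-- `IsSchematicallyDense` as a vanishing statement. -/
lemma iff_eq_zero (U : X.Opens) :
    CInt.IsSchematicallyDense U ↔ ∀ (V : X.Opens) (s : Γ(X, V)),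
      X.presheaf.map (homOfLE (inf_le_left : V ⊓ U ≤ V)).op s = 0 → s = 0 := by
  refine forall_congr' fun V => ?_
  exact injective_iff_map_eq_zero (X.presheaf.map (homOfLE (inf_le_left : V ⊓ U ≤ V)).op).hom

/-- A section vanishes if all its germs vanish. -/
lemma eq_zero_of_germ {V : X.Opens} (s : Γ(X, V))
    (h : ∀ x (hx : x ∈ V), X.presheaf.germ V x hx s = 0) : s = 0 :=
  TopCat.Presheaf.section_ext X.sheaf V s 0 fun x hx =>
    (h x hx).trans (map_zero (X.presheaf.germ V x hx).hom).symm

/-- A section vanishing on a larger open vanishes on a smaller one. -/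
lemma map_eq_zero_of_le {V W W' : X.Opens} (s : Γ(X, V)) (h : W ≤ V) (h' : W' ≤ W)
    (hs : X.presheaf.map (homOfLE h).op s = 0) :
    X.presheaf.map (homOfLE (h'.trans h)).op s = 0 := by
  rw [← homOfLE_comp h' h, op_comp, Functor.map_comp]
  exact (congrArg (X.presheaf.map (homOfLE h').op).hom hs).trans (map_zero _)

/-- An open containing a schematically dense open is schematically dense. -/
lemma mono {U U' : X.Opens} (h : U ≤ U') (hU : CInt.IsSchematicallyDense U) :
    CInt.IsSchematicallyDense U' := by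
  rw [iff_eq_zero] at hU ⊢
  exact fun V s hs => hU V s (map_eq_zero_of_le s inf_le_left (inf_le_inf_left V h) hs)

/-- Schematic density can be checked on affine neighbourhoods, as small as one likes. -/
lemma of_local (U : X.Opens)
    (h : ∀ (V : X.Opens) (x : X), x ∈ V → ∃ W : X.Opens, W ≤ V ∧ x ∈ W ∧ ∀ b : Γ(X, W),
      X.presheaf.map (homOfLE (inf_le_left : W ⊓ U ≤ W)).op b = 0 → b = 0) :
    CInt.IsSchematicallyDense U := by
  rw [iff_eq_zero]
  intro V s hs
  refine eq_zero_of_germ s fun x hx => ?_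
  obtain ⟨W, hWV, hxW, hW⟩ := h V x hx
  have h0 : X.presheaf.map (homOfLE hWV).op s = 0 := by
    apply hW
    have := map_eq_zero_of_le s inf_le_left (inf_le_inf_right U hWV) hs
    rw [← homOfLE_comp (inf_le_left : W ⊓ U ≤ W) hWV, op_comp, Functor.map_comp] at this
    exact this
  rw [← X.presheaf.germ_res_apply (homOfLE hWV) x hxW s]
  exact (congrArg (X.presheaf.germ W x hxW).hom h0).trans (map_zero _)

/-- On an affine open, a section vanishes on `D(g)` iff it is killed by a power of `g`. -/
lemma basicOpen_map_eq_zero_iff {W : X.Opens} (hW : IsAffineOpen W) (g b : Γ(X, W)) :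
    X.presheaf.map (homOfLE (X.basicOpen_le g)).op b = 0 ↔ ∃ n : ℕ, g ^ n * b = 0 := by
  have := hW.isLocalization_basicOpen g
  refine (IsLocalization.map_eq_zero_iff (Submonoid.powers g) Γ(X, X.basicOpen g) b).trans ?_
  constructor
  · rintro ⟨⟨_, n, rfl⟩, h⟩; exact ⟨n, h⟩
  · rintro ⟨n, h⟩; exact ⟨⟨_, n, rfl⟩, h⟩

/-- The germwise regular case: `X_s` is schematically dense. -/
theorem isSchematicallyDense_basicOpen (s : Γ(X, ⊤))
    (hs : ∀ x : ↥X, (X.presheaf.germ ⊤ x trivial s) ∈ nonZeroDivisors ↑(X.presheaf.stalk x)) :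
    CInt.IsSchematicallyDense (X.basicOpen s) := by
  refine of_local _ fun V x hx => ?_
  obtain ⟨W, hW, hxW, hWV⟩ := Opens.isBasis_iff_nbhd.1 X.isBasis_affineOpens hx
  refine ⟨W, hWV, hxW, fun b hb => eq_zero_of_germ b fun y hy => ?_⟩
  have hle : X.basicOpen (X.presheaf.map (homOfLE (le_top : W ≤ ⊤)).op s) ≤ W ⊓ X.basicOpen s :=
    (X.basicOpen_res s _).le
  obtain ⟨n, hn⟩ := (basicOpen_map_eq_zero_iff hW _ b).1 (map_eq_zero_of_le b inf_le_left hle hb)
  have := congrArg (X.presheaf.germ W y hy).hom hn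
  rw [map_mul, map_pow, map_zero] at this
  erw [X.presheaf.germ_res_apply] at this
  exact (pow_mem (hs y) n).1 _ this

section Affine

variable [IsAffine X]

/-- A regular element of the ring of an affine scheme has regular germs. -/
lemma germ_mem_nonZeroDivisors (t : Γ(X, ⊤)) (ht : t ∈ nonZeroDivisors Γ(X, ⊤)) (x : X) :
    X.presheaf.germ ⊤ x trivial t ∈ nonZeroDivisors ↑(X.presheaf.stalk x) := by
  let := TopCat.Presheaf.algebra_section_stalk X.presheaf (⟨x, trivial⟩ : (⊤ : X.Opens))
  have := (isAffineOpen_top X).isLocalization_stalk ⟨x, trivial⟩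
  exact IsLocalization.map_nonZeroDivisors_le
    ((isAffineOpen_top X).primeIdealOf ⟨x, trivial⟩).asIdeal.primeCompl _ ⟨t, ht, rfl⟩

/-- The ideal of functions whose basic open lies in `U`. -/
def idealOf (U : X.Opens) : Ideal Γ(X, ⊤) where
  carrier := {g | X.basicOpen g ≤ U}
  zero_mem' := by simp [Scheme.basicOpen_zero]
  add_mem' {g h} hg hh := fun x hx => by
    have hx' : IsUnit (X.presheaf.germ ⊤ x trivial (g + h)) := (X.mem_basicOpen_top _ x).1 hx
    rw [map_add] at hx'
    rcases IsLocalRing.isUnit_or_isUnit_of_isUnit_add hx' with h1 | h1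
    · exact hg ((X.mem_basicOpen_top _ x).2 h1)
    · exact hh ((X.mem_basicOpen_top _ x).2 h1)
  smul_mem' c g hg := by
    show X.basicOpen (c * g) ≤ U
    rw [Scheme.basicOpen_mul]
    exact inf_le_right.trans hg

/-- If `U` contains no `X_t` with `t` regular (Noetherian, or reduced with finitely many components),
then a non-zero function vanishes on `U`. -/
lemma exists_annihilated {R : Type u} [CommRing R]
    (h : IsNoetherianRing R ∨ (_root_.IsReduced R ∧ (minimalPrimes R).Finite)) (I : Ideal R)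
    (hI : ∀ t ∈ I, t ∉ nonZeroDivisors R) : ∃ a : R, a ≠ 0 ∧ ∀ g ∈ I, g * a = 0 := by
  classical
  rcases h with hN | ⟨hR, hfin⟩
  · have hsub : (I : Set R) ⊆ ⋃ p ∈ associatedPrimes R R, (p : Set R) := by
      rw [biUnion_associatedPrimes_eq_compl_nonZeroDivisors]
      exact hI
    obtain ⟨p, hp, hIp⟩ := (I.subset_union_prime_finite (associatedPrimes.finite R R) (f := id) 0 0
      fun _ h _ _ => h.isPrime).1 hsub
    obtain ⟨hprime, a, ha⟩ := isAssociatedPrime_iff.1 hp
    refine ⟨a, fun h0 => hprime.ne_top ?_, fun g hg => ?_⟩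
    · rw [ha, h0]; simp
    · have := hIp hg
      rw [id, ha] at this
      simpa [Submodule.mem_colon_singleton] using this
  · have hb : (⊥ : Ideal R).radical = ⊥ := (Ideal.isRadical_bot).radical
    have hU : (nonZeroDivisors R : Set R)ᶜ ⊆ ⋃ p ∈ minimalPrimes R, (p : Set R) := by
      intro t ht
      by_contra h
      simp only [Set.mem_iUnion, SetLike.mem_coe, not_exists] at h
      apply ht
      refine mem_nonZeroDivisors_iff_right.2 fun x hx => ?_
      rw [← Ideal.mem_bot, ← hb, ← Ideal.sInf_minimalPrimes, Submodule.mem_sInf]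
      intro p hp
      exact (hp.1.1.mem_or_mem (by rw [hx]; exact p.zero_mem)).resolve_right (h p hp)
    have : (I : Set R) ⊆ ⋃ p ∈ minimalPrimes R, (p : Set R) := fun t ht => hU (hI t ht)
    obtain ⟨p, hp, hIp⟩ := (I.subset_union_prime_finite hfin (f := id) 0 0
      fun _ h _ _ => h.1.1).1 this
    have hprime : p.IsPrime := hp.1.1
    have hnot : ¬ (hfin.toFinset.erase p).inf id ≤ p := by
      rw [hprime.inf_le']
      rintro ⟨q, hq, hqp⟩
      rw [Finset.mem_erase, Set.Finite.mem_toFinset] at hq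
      exact hq.1 (le_antisymm hqp (hp.2 hq.2.1 hqp))
    obtain ⟨a, ha, hap⟩ := SetLike.not_le_iff_exists.1 hnot
    refine ⟨a, fun h => hap (h ▸ p.zero_mem), fun g hg => ?_⟩
    rw [← Ideal.mem_bot, ← hb, ← Ideal.sInf_minimalPrimes, Submodule.mem_sInf]
    intro q hq
    by_cases hqp : q = p
    · exact hqp ▸ Ideal.mul_mem_right a p (hIp hg)
    · exact Ideal.mul_mem_left q g (Finset.inf_le (f := id)
        (Finset.mem_erase.2 ⟨hqp, hfin.mem_toFinset.2 hq⟩) ha)

/-- An affine scheme with finitely many irreducible components has finitely many minimal primes. -/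
lemma minimalPrimes_finite (h : (irreducibleComponents ↥X).Finite) :
    (minimalPrimes Γ(X, ⊤)).Finite := by
  let e := Scheme.homeoOfIso X.isoSpec
  let E := irreducibleComponentsEquivOfIsPreirreducibleFiber e e.continuous e.isOpenMap
    (fun x => (Set.subsingleton_singleton.preimage e.injective).isPreirreducible) e.surjective
  have h1 : Finite (irreducibleComponents ↥X) := h.to_subtype
  have h2 : Finite (irreducibleComponents (PrimeSpectrum Γ(X, ⊤))) := Finite.of_equiv _ E.symm.toEquiv
  exact Set.finite_coe_iff.1 (Finite.of_equiv _ (minimalPrimes.equivIrreducibleComponents _).symm.toEquiv)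

/-- On an affine scheme which is Noetherian, or reduced with finitely many components, an open is
schematically dense iff it contains some `X_t` with `t` regular. -/
theorem iff_exists_basicOpen_le
    (hX : AlgebraicGeometry.IsNoetherian X ∨ (AlgebraicGeometry.IsReduced X ∧ (irreducibleComponents ↥X).Finite)) (U : X.Opens) :
    CInt.IsSchematicallyDense U ↔ ∃ t : Γ(X, ⊤), t ∈ nonZeroDivisors Γ(X, ⊤) ∧ X.basicOpen t ≤ U := by
  refine ⟨fun hU => ?_, fun ⟨t, ht, htU⟩ =>
    mono htU (isSchematicallyDense_basicOpen t fun x => germ_mem_nonZeroDivisors t ht x)⟩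
  by_contra hne
  have hA : IsNoetherianRing Γ(X, ⊤) ∨ (_root_.IsReduced Γ(X, ⊤) ∧ (minimalPrimes Γ(X, ⊤)).Finite) := by
    rcases hX with h | ⟨h1, h2⟩
    · exact .inl (IsLocallyNoetherian.component_noetherian ⟨⊤, isAffineOpen_top X⟩)
    · exact .inr ⟨inferInstance, minimalPrimes_finite h2⟩
  obtain ⟨a, ha, hI⟩ := exists_annihilated hA (idealOf U) fun t ht h => hne ⟨t, h, ht⟩
  refine ha ((iff_eq_zero U).1 hU ⊤ a (eq_zero_of_germ _ fun x hx => ?_))
  obtain ⟨f, hfU, hxf⟩ := (isAffineOpen_top X).exists_basicOpen_le ⟨x, hx.2⟩ (trivial : x ∈ (⊤ : X.Opens))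
  have := congrArg (X.presheaf.germ ⊤ x trivial).hom (hI f hfU)
  rw [map_mul, map_zero] at this
  refine (X.presheaf.germ_res_apply _ x hx a).trans ?_
  exact ((X.mem_basicOpen_top f x).1 hxf).mul_right_eq_zero.1 this

end Affine

end Groth.Agent.SchDenseLib
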