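import Groth.Agent.S13106
import Groth.Agent.SchDenseLib.Basic
import Mathlib.AlgebraicGeometry.Sites.Fpqc
import Mathlib.AlgebraicGeometry.Morphisms.Separated

/-!
# Morphisms into separated schemes and schematically dense opens
-/

universe u

open CategoryTheory AlgebraicGeometry CategoryTheory.Limits

namespace Groth.Agent.SchDenseLib

variable {X X' Y S : Scheme.{u}}

/-- Two morphisms into a separated scheme agreeing on a schematically dense open are equal. -/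
lemma hom_ext {U : X.Opens} (hU : CInt.IsSchematicallyDense U) (z : Y ⟶ S) [IsSeparated z]
    (v₁ v₂ : X ⟶ Y) (hz : v₁ ≫ z = v₂ ≫ z) (h : U.ι ≫ v₁ = U.ι ≫ v₂) : v₁ = v₂ := by
  have : IsIso (U.ι ∣_ U) := by
    refine (isIso_iff_isOpenImmersion_and_surjective _).2 ⟨inferInstance, ⟨fun y => ?_⟩⟩
    let x : (U.ι ⁻¹ᵁ U : Scheme.{u}) := ⟨⟨y.1, y.2⟩, y.2⟩
    refine ⟨x, U.ι.isOpenEmbedding.injective ?_⟩
    exact congrArg (fun m : (U.ι ⁻¹ᵁ U : Scheme.{u}) ⟶ X => m x) (morphismRestrict_ι U.ι U)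
  exact S13106.result U.ι U hU z v₁ v₂ hz h

/-- Descent of an extension along an effective epimorphism. -/
lemma extends_of_effectiveEpi (pX : X ⟶ S) (pY : Y ⟶ S) [IsSeparated pY]
    (f : X' ⟶ X) [EffectiveEpi f] (U : X.Opens) [Epi (f ∣_ U)]
    (hU : CInt.IsSchematicallyDense ((pullback.fst f f) ⁻¹ᵁ (f ⁻¹ᵁ U)))
    (g : (U : Scheme.{u}) ⟶ Y)
    (g' : X' ⟶ Y) (hg'S : g' ≫ pY = f ≫ pX) (hg' : (f ⁻¹ᵁ U).ι ≫ g' = (f ∣_ U) ≫ g) :
    ∃ h : X ⟶ Y, U.ι ≫ h = g ∧ h ≫ pY = pX := by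
  have hkey : pullback.fst f f ≫ g' = pullback.snd f f ≫ g' := by
    refine hom_ext hU pY _ _ ?_ ?_
    · rw [Category.assoc, Category.assoc, hg'S, pullback.condition_assoc]
    · have hle : (pullback.fst f f) ⁻¹ᵁ (f ⁻¹ᵁ U) ≤ (pullback.snd f f) ⁻¹ᵁ (f ⁻¹ᵁ U) := by
        rw [← Scheme.Hom.comp_preimage, ← Scheme.Hom.comp_preimage, pullback.condition]
      let a := (pullback.fst f f) ∣_ (f ⁻¹ᵁ U)
      let b := (pullback f f).homOfLE hle ≫ (pullback.snd f f) ∣_ (f ⁻¹ᵁ U)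
      have ha : a ≫ (f ⁻¹ᵁ U).ι = ((pullback.fst f f) ⁻¹ᵁ (f ⁻¹ᵁ U)).ι ≫ pullback.fst f f :=
        morphismRestrict_ι _ _
      have hb : b ≫ (f ⁻¹ᵁ U).ι = ((pullback.fst f f) ⁻¹ᵁ (f ⁻¹ᵁ U)).ι ≫ pullback.snd f f := by
        simp [b, Category.assoc]
      have hab : a ≫ (f ∣_ U) = b ≫ (f ∣_ U) := by
        rw [← cancel_mono U.ι, Category.assoc, Category.assoc, morphismRestrict_ι,
          reassoc_of% ha, reassoc_of% hb, pullback.condition]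
      rw [← reassoc_of% ha, ← reassoc_of% hb, hg', reassoc_of% hab]
  obtain ⟨h, hh⟩ : ∃ h : X ⟶ Y, f ≫ h = g' := by
    refine ⟨EffectiveEpi.desc f g' fun {Z} g₁ g₂ h => ?_, EffectiveEpi.fac _ _ _⟩
    rw [← pullback.lift_fst g₁ g₂ h, Category.assoc, hkey, pullback.lift_snd_assoc]
  refine ⟨h, ?_, ?_⟩
  · rw [← cancel_epi (f ∣_ U), ← hg', ← hh, morphismRestrict_ι_assoc]
  · rw [← cancel_epi f, reassoc_of% hh, hg'S]

/-- Extension along a faithfully flat quasi-compact morphism. -/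
lemma extends_of_faithfullyFlat (pX : X ⟶ S) (pY : Y ⟶ S) [IsSeparated pY]
    (f : X' ⟶ X) [QuasiCompact f] [Flat f] [Surjective f] (U : X.Opens)
    (hU : CInt.IsSchematicallyDense ((pullback.fst f f) ⁻¹ᵁ (f ⁻¹ᵁ U)))
    (g : (U : Scheme.{u}) ⟶ Y)
    (g' : X' ⟶ Y) (hg'S : g' ≫ pY = f ≫ pX) (hg' : (f ⁻¹ᵁ U).ι ≫ g' = (f ∣_ U) ≫ g) :
    ∃ h : X ⟶ Y, U.ι ≫ h = g ∧ h ≫ pY = pX := by
  have : Surjective (f ∣_ U) := IsZariskiLocalAtTarget.restrict ‹_› U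
  exact extends_of_effectiveEpi pX pY f U hU g g' hg'S hg'

end Groth.Agent.SchDenseLib
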